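import Cfsg.Agent.Lib.FischerThree24.Data
import Cfsg.Agent.Lib.Fi23Ord3.Basic
import Cfsg.Agent.Lib.FischerPresented.OutSigma

/-!
Readers for the tables of the 693 transpositions, and the checks made on them.
-/

set_option autoImplicit false
set_option maxRecDepth 100000

namespace Cfsg.Agent.FischerThree24

open Cfsg.Agent.Fi23Ord3 (actF wok sameW)
open Cfsg.Agent.CosetData Cfsg.Agent.CosetCert

/-- A field of sixteen bits. -/
def get16 (v i : ℕ) : ℕ := Nat.land (Nat.shiftRight v (Nat.mul 16 i)) 65535

/-- A field of thirty-two bits. -/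
def get32 (v i : ℕ) : ℕ := Nat.land (Nat.shiftRight v (Nat.mul 32 i)) 4294967295

/-- An entry of a list in groups of sixteen. -/
def get2 {α : Type} (L : List (List α)) (d : α) (n : ℕ) : α := (L.getD (n / 16) []).getD (n % 16) d

/-- The point of an index. -/
def pt (i : ℕ) : ℕ := get16 tPts i

/-- The permutation of the cycling element. -/
def tau (i : ℕ) : ℕ := get16 tauTab i

/-- The other candidate. -/
def oth (i : ℕ) : ℕ := get16 othTab i

/-- The kind of an index. -/
def kind (i : ℕ) : ℕ := get16 kinds i

/-- The index of a row. -/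
def rix (n : ℕ) : ℕ := get16 rowIdx n

/-- The packed row. -/
def rowV (n : ℕ) : ℕ := get2 rowTabs 0 n

/-- The permutation of a row. -/
def row (n x : ℕ) : ℕ := get16 (rowV n) x

/-- The number of rows. -/
def nRows : ℕ := 261

/-- The word of the transposition of a first row. -/
def baseW (b : ℕ) : List ℕ :=
  (baseRows.getD b (0, [])).2.reverse ++ [(baseRows.getD b (0, [])).1] ++ (baseRows.getD b (0, [])).2

/-- The path to a neighbour of the base point. -/
def nbPath (i : ℕ) : List ℕ := get2 nbPaths [] i

/-- The permutation of a generator of order three. -/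
def gp (k x : ℕ) : ℕ := get16 (gTabs.getD k 0) x

/-- An entry of the tree. -/
def node (n : ℕ) : ℕ × ℕ × ℕ × ℕ := get2 farTree (0, 0, 0, 0) n

/-- A product of powers of the first generators. -/
def form : ℕ → ℕ → ℕ → ℕ
  | 0, _, x => x
  | k + 1, e, x =>
    match e / 3 ^ k % 3 with
    | 0 => form k e x
    | 1 => gp k (form k e x)
    | _ => gp k (gp k (form k e x))

/-- A product of rows. -/
def cperm (w : List ℕ) (x : ℕ) : ℕ := w.foldl (fun x a => row a x) x

/-- The mirrored word. -/
def mW (w : List ℕ) : List ℕ := w.map FischerPresented.Out22.mir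

/-- The commuting pattern of an index with seventeen rows. -/
def sigC (sep : List ℕ) (i : ℕ) : ℕ :=
  (List.range 17).foldl (fun v b => if Nat.beq (row (sep.getD b 0) i) i then v + 2 ^ b else v) 0

/-- A row is conjugation by its transposition. -/
noncomputable def baseOK (b : ℕ) : Bool :=
  Nat.blt (baseRows.getD b (0, [])).1 10 && (wok (baseRows.getD b (0, [])).2 && (wok (baseW b) &&
    (Nat.beq (actF (baseRows.getD b (0, [])).2 (FischerPresented.Out23.gpt (baseRows.getD b (0, [])).1))
      (pt (rix b)) &&
    allBelow (fun x => Nat.beq (actF (baseW b) (pt x)) (pt (row b x))) 693)))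

/-- A row comes from two earlier ones. -/
def derOK (n : ℕ) : Bool :=
  Nat.ble nRows n || (Nat.blt n 6 || (Nat.blt (rowFrom.getD n (0, 0)).1 6 && (Nat.blt (rowFrom.getD n (0, 0)).2 n &&
    (Nat.beq (row (rowFrom.getD n (0, 0)).1 (rix (rowFrom.getD n (0, 0)).2)) (rix n) &&
    allBelow (fun x => Nat.beq (row n x) (row (rowFrom.getD n (0, 0)).1 (row (rowFrom.getD n (0, 0)).2
      (row (rowFrom.getD n (0, 0)).1 x)))) 693))))

/-- A point is among the 693 or is not fixed by both generators. -/
noncomputable def covAt (p : ℕ) : Bool :=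
  Nat.ble 31671 p || (Nat.beq p 26625 || (Nat.beq p 16801 ||
    (!(Nat.beq (actF [0] p) p && Nat.beq (actF [2] p) p) || !(allBelow (fun i => !(Nat.beq (pt i) p)) 693))))

/-- The exponent is within the first generators. -/
def relAt (k j e : ℕ) : Bool :=
  Nat.blt e (3 ^ k) && allBelow (fun x => Nat.beq (gp k (gp j (gp k (gp k x)))) (form k e x)) 693

/-- The permutation of an element of the coset. -/
def cosP (e x : ℕ) : ℕ := tau (form 6 e x)

/-- The entry of an element of the coset. -/
def clsAt (e : ℕ) : ℕ × ℕ × List ℕ := get2 clsTab (9, 0, []) e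

/-- An element of the coset is not of order three, has a fixed index, or is conjugate to the chosen one. -/
def clsOK (e : ℕ) : Bool :=
  (Nat.beq (clsAt e).1 0 && (Nat.blt (clsAt e).2.1 693 &&
    !(Nat.beq (cosP e (cosP e (cosP e (clsAt e).2.1))) (clsAt e).2.1))) ||
  ((Nat.beq (clsAt e).1 1 && (Nat.blt (clsAt e).2.1 693 && Nat.beq (cosP e (clsAt e).2.1) (clsAt e).2.1)) ||
  (Nat.beq (clsAt e).1 2 && ((clsAt e).2.2.all (fun a => Nat.blt a nRows) &&
    allBelow (fun x => Nat.beq (cosP e (cperm (clsAt e).2.2 x)) (cperm (clsAt e).2.2 (cosP starE x))) 693)))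

end Cfsg.Agent.FischerThree24
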