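import Cfsg.Agent.Lib.FischerUnique24.Integral
import Cfsg.Agent.Lib.FischerUnique24.Chart23
import Cfsg.Agent.Lib.Fi23Ord3.Basic

/-!
Elements of order three of a group of type M(24): triangles of commuting transpositions cycled by them,
and lifts through the charts.
-/

set_option autoImplicit false
set_option maxRecDepth 100000

namespace Cfsg.Agent.FischerThree24

open Cfsg.Agent.Fischer
open Cfsg.Agent.Fischer.Factor
open Cfsg.Agent.FischerPresented
open Cfsg.Agent.FischerUnique24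
open Cfsg.Agent.Fi23Ord3 (GT)

variable {G : Type*} [Group G] {D : Set G}

/-- A chart with values in the presented Fi23, with its kernel. -/
structure Chart (D : Set G) (t : G) (f : G → GT) : Prop where
  isChart : IsChart D Fi23.D t f
  ker_iff : ∀ x ∈ Hd D t, f x = 1 ↔ x = 1 ∨ x = t

/-- An ordered triangle of commuting transpositions. -/
structure Tri (D : Set G) (r s t : G) : Prop where
  mem : r ∈ D
  rs : s ∈ Nb D r
  rt : t ∈ Nb D r
  st : t ∈ Nb D s

theorem Tri.rot {r s t : G} (h : Tri D r s t) : Tri D s t r :=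
  ⟨h.rs.1, h.st, ⟨h.mem, h.rs.2.1.symm, h.rs.2.2.symm⟩, ⟨h.mem, h.rt.2.1.symm, h.rt.2.2.symm⟩⟩

/-- An element cycling a triangle. -/
def Cyc (y r s t : G) : Prop := y * r * y⁻¹ = s ∧ y * s * y⁻¹ = t ∧ y * t * y⁻¹ = r

/-- No transposition centralises the element. -/
def Free (D : Set G) (y : G) : Prop := ∀ d ∈ D, y * d * y⁻¹ ≠ d

theorem conj_fix_iff {y d : G} : y * d * y⁻¹ = d ↔ Commute y d :=
  ⟨fun h => mul_inv_eq_iff_eq_mul.1 h, fun h => conj_eq_self_of_commute h⟩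

theorem free_conj (hT : Cfsg.IsThreeTranspositionGroup D) {y : G} (g : G) (h : Free D y) :
    Free D (g * y * g⁻¹) := by
  intro d hd e
  have e' : y * (g⁻¹ * d * g) * y⁻¹ = g⁻¹ * d * g := by
    calc y * (g⁻¹ * d * g) * y⁻¹ = g⁻¹ * (g * y * g⁻¹ * d * (g * y * g⁻¹)⁻¹) * g := by group
      _ = g⁻¹ * d * g := by rw [e]
  refine h _ ?_ e'
  have := hT.2.1 g⁻¹ d hd
  rwa [inv_inv] at this

theorem cube_eq {g h : G} (hc : Commute g h) (hg : g ^ 3 = 1) (hh : h * h = 1) (h3 : (h * g) ^ 3 = 1) :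
    h = 1 := by
  rw [hc.symm.mul_pow, hg, mul_one, pow_succ, pow_two, hh, one_mul] at h3
  exact h3

theorem pow_four_cube {g h : G} (hh : h * h = 1) (hg : g ^ 3 = h) : (g ^ 4) ^ 3 = 1 := by
  rw [← pow_mul, show 4 * 3 = 3 * 4 from rfl, pow_mul, hg,
    show 4 = 2 + 2 from rfl, pow_add, pow_two, hh, one_mul]

/-- Adjoining an element whose cube lies in the normalised subgroup. -/
theorem mem_step [Finite G] {N : Subgroup G} {y : G} (hy : ∀ n ∈ N, y * n * y⁻¹ ∈ N) (h3 : y ^ 3 ∈ N)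
    {x : G} (hx : x ∈ N ⊔ Subgroup.zpowers y) : ∃ k < 3, ∃ n ∈ N, x = y ^ k * n := by
  have hinv : ∀ n ∈ N, y⁻¹ * n * y ∈ N := by
    intro n hn
    have hs : (fun v => y * v * y⁻¹) '' (N : Set G) = N := by
      refine Set.eq_of_subset_of_ncard_le (by rintro _ ⟨v, hv, rfl⟩; exact hy v hv) (le_of_eq ?_) (Set.toFinite _)
      rw [Set.ncard_image_of_injective _ fun a b e => mul_left_cancel (mul_right_cancel e)]
    obtain ⟨v, hv, e⟩ := hs.ge hn
    rw [← e, show y⁻¹ * (y * v * y⁻¹) * y = v by group]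
    exact hv
  have hred : ∀ (k : ℕ), ∀ n ∈ N, ∃ j < 3, ∃ m ∈ N, y ^ k * n = y ^ j * m := by
    intro k n hn
    refine ⟨k % 3, Nat.mod_lt _ (by norm_num), (y ^ 3) ^ (k / 3) * n, mul_mem (pow_mem h3 _) hn, ?_⟩
    rw [← mul_assoc, ← pow_mul, ← pow_add, Nat.mod_add_div]
  have hpush : ∀ (j : ℕ), ∀ n ∈ N, ∃ m ∈ N, n * y ^ j = y ^ j * m := by
    intro j
    induction j with
    | zero => exact fun n hn => ⟨n, hn, by simp⟩
    | succ j ih =>
      intro n hn
      obtain ⟨m, hm, e⟩ := ih n hn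
      exact ⟨y⁻¹ * m * y, hinv m hm, by rw [pow_succ, ← mul_assoc, e]; group⟩
  rw [Subgroup.sup_eq_closure] at hx
  induction hx using Subgroup.closure_induction with
  | mem z hz =>
    rcases hz with hz | hz
    · exact ⟨0, by norm_num, z, hz, by simp⟩
    · obtain ⟨m, rfl⟩ := Subgroup.mem_zpowers_iff.1 hz
      have e : y ^ m = y ^ (m % (orderOf y : ℤ)).toNat := by
        rw [← zpow_natCast, Int.toNat_of_nonneg (Int.emod_nonneg _ (by exact_mod_cast (orderOf_pos y).ne')),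
          zpow_mod_orderOf]
      obtain ⟨j, hj, n, hn, e'⟩ := hred (m % (orderOf y : ℤ)).toNat 1 (one_mem _)
      exact ⟨j, hj, n, hn, by rw [← e', mul_one, e]⟩
  | one => exact ⟨0, by norm_num, 1, one_mem _, by simp⟩
  | mul a b _ _ ha hb =>
    obtain ⟨i, -, n, hn, rfl⟩ := ha
    obtain ⟨j, -, m, hm, rfl⟩ := hb
    obtain ⟨n', hn', e⟩ := hpush j n hn
    obtain ⟨k, hk, p, hp, e'⟩ := hred (i + j) (n' * m) (mul_mem hn' hm)
    exact ⟨k, hk, p, hp, by rw [← e', pow_add]; simp only [mul_assoc]; rw [← mul_assoc n, e, mul_assoc]⟩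
  | inv a _ ha =>
    obtain ⟨i, hi, n, hn, rfl⟩ := ha
    obtain ⟨m, hm, e⟩ := hpush (3 - i) (n⁻¹ * (y ^ 3)⁻¹) (mul_mem (inv_mem hn) (inv_mem h3))
    obtain ⟨k, hk, p, hp, e'⟩ := hred (3 - i) m hm
    refine ⟨k, hk, p, hp, ?_⟩
    rw [← e', ← e, mul_inv_rev]
    have h33 : y ^ 3 = y ^ (3 - i) * y ^ i := by rw [← pow_add, Nat.sub_add_cancel hi.le]
    rw [h33]; group

theorem card_step [Finite G] {N : Subgroup G} {y : G} (hy : ∀ n ∈ N, y * n * y⁻¹ ∈ N) (h3 : y ^ 3 ∈ N)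
    (hne : y ∉ N) : Nat.card ↥(N ⊔ Subgroup.zpowers y) = 3 * Nat.card N := by
  have h2 : y ^ 2 ∉ N := fun h => hne (by
    have := mul_mem (inv_mem h) h3
    rwa [show (y ^ 2)⁻¹ * y ^ 3 = y by group] at this)
  have hyS : y ∈ N ⊔ Subgroup.zpowers y := Subgroup.mem_sup_right (Subgroup.mem_zpowers y)
  let F : Fin 3 × N → ↥(N ⊔ Subgroup.zpowers y) := fun p =>
    ⟨y ^ (p.1 : ℕ) * p.2, mul_mem (pow_mem hyS _) (Subgroup.mem_sup_left p.2.2)⟩
  have hF : Function.Bijective F := by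
    refine ⟨?_, fun x => ?_⟩
    · rintro ⟨i, n⟩ ⟨j, m⟩ e
      have e : y ^ (i : ℕ) * (n : G) = y ^ (j : ℕ) * m := congrArg Subtype.val e
      have key : ∀ a b : ℕ, a ≤ b → b < 3 → ∀ p q : N, y ^ a * (p : G) = y ^ b * q → a = b := by
        intro a b hab hb p q h
        have : y ^ (b - a) ∈ N := by
          have e1 : y ^ (b - a) = (p : G) * (q : G)⁻¹ := by
            rw [eq_mul_inv_iff_mul_eq]
            refine mul_left_cancel (a := y ^ a) ?_
            rw [← mul_assoc, ← pow_add, Nat.add_sub_cancel' hab, h]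
          rw [e1]; exact mul_mem p.2 (inv_mem q.2)
        have : b - a < 3 := by omega
        interval_cases hd : b - a
        · omega
        · exact absurd (by simpa using ‹y ^ 1 ∈ N›) hne
        · exact absurd ‹y ^ 2 ∈ N› h2
      have hij : (i : ℕ) = j := (le_total (i : ℕ) j).elim (fun h => key _ _ h j.2 n m e)
        (fun h => (key _ _ h i.2 m n e.symm).symm)
      refine Prod.ext (Fin.ext hij) (Subtype.ext ?_)
      rw [hij] at e
      exact mul_left_cancel e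
    · obtain ⟨k, hk, n, hn, e⟩ := mem_step hy h3 x.2
      exact ⟨(⟨k, hk⟩, ⟨n, hn⟩), Subtype.ext e.symm⟩
  rw [← Nat.card_congr (Equiv.ofBijective F hF), Nat.card_prod, Nat.card_fin]

variable [Finite G]

namespace Chart

variable {t : G} {f : G → GT} (h : Chart D t f)
include h

omit [Finite G] in
theorem map_conj {g y : G} (hg : g ∈ Hd D t) (hy : y ∈ Hd D t) : f (g * y * g⁻¹) = f g * f y * (f g)⁻¹ := by
  rw [h.isChart.map_mul _ (mul_mem hg hy) _ (inv_mem hg), h.isChart.map_mul _ hg _ hy, h.isChart.map_inv hg]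

omit [Finite G] in
theorem map_pow {g : G} (hg : g ∈ Hd D t) (n : ℕ) : f (g ^ n) = f g ^ n := by
  induction n with
  | zero => rw [pow_zero, pow_zero, h.isChart.map_one]
  | succ n ih => rw [pow_succ, h.isChart.map_mul _ (pow_mem hg n) _ hg, ih, pow_succ]

omit [Finite G] in
theorem commute_nb (hD : Cfsg.IsThreeTranspositionGroup D) {g y : G} (hg : g ∈ Hd D t) (hy : y ∈ Nb D t) :
    Commute (f g) (f y) ↔ Commute g y := by
  have hyH : y ∈ Hd D t := Subgroup.subset_closure hy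
  have hmem : g * y * g⁻¹ ∈ Nb D t := by
    have := nb_conj hD g hy
    rwa [conj_eq_self_of_commute (commute_of_mem_closure_nb hg).symm] at this
  rw [← conj_fix_iff, ← conj_fix_iff, ← h.map_conj hg hyH]
  exact ⟨fun e => h.isChart.inj _ hmem _ hy e, fun e => congrArg f e⟩

omit [Finite G] in
theorem eq_of_cube (hD : Cfsg.IsThreeTranspositionGroup D) (ht : t ∈ D) {g k : G} (hg : g ∈ Hd D t)
    (hk : k ∈ Hd D t) (hg3 : g ^ 3 = 1) (hk3 : k ^ 3 = 1) (e : f g = f k) : g = k := by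
  have h1 : f (g * k⁻¹) = 1 := by
    rw [h.isChart.map_mul _ hg _ (inv_mem hk), h.isChart.map_inv hk, e, mul_inv_cancel]
  rcases (h.ker_iff _ (mul_mem hg (inv_mem hk))).1 h1 with h2 | h2
  · exact mul_inv_eq_one.1 h2
  · have e2 : g = t * k := mul_inv_eq_iff_eq_mul.1 h2
    rw [e2] at hg3
    exact absurd (cube_eq (commute_of_mem_closure_nb hk).symm hk3 (TSet.sq hD.1 ht) hg3) (TSet.ne_one hD.1 ht)

omit [Finite G] in
theorem exists_cube (hD : Cfsg.IsThreeTranspositionGroup D) (ht : t ∈ D) {w : GT} (hw : w ^ 3 = 1) :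
    ∃ g ∈ Hd D t, g ^ 3 = 1 ∧ f g = w := by
  obtain ⟨g, hg, rfl⟩ := h.isChart.surj w
  refine ⟨g ^ 4, pow_mem hg 4, ?_, ?_⟩
  · rcases (h.ker_iff _ (pow_mem hg 3)).1 (by rw [h.map_pow hg, hw]) with e | e
    · rw [← pow_mul, show 4 * 3 = 3 * 4 from rfl, pow_mul, e, one_pow]
    · exact pow_four_cube (TSet.sq hD.1 ht) e
  · rw [h.map_pow hg, show 4 = 3 + 1 from rfl, pow_succ, hw, one_mul]

end Chart

variable {X : Type*} [Group X] [Finite X] {D1 : Set X} (C : Ctx D D1)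
include C

theorem mem_Hd_iff {g t : G} (ht : t ∈ D) : g ∈ Hd D t ↔ Commute g t := by
  rw [← C.centralizer ht, Subgroup.mem_centralizer_singleton_iff]; rfl

theorem exists_chart {t u : G} (ht : t ∈ D) (hu : u ∈ Nb D t) : ∃ f, Chart D t f ∧ f u = Fi23.z := by
  obtain ⟨f, h1, h2, h3⟩ := C.chart_z ht hu
  exact ⟨f, ⟨h1, h2⟩, h3⟩

/-- Ordered triangles are conjugate. -/
theorem trans_tri {r s t r' s' t' : G} (h : Tri D r s t) (h' : Tri D r' s' t') :
    ∃ g : G, g * r * g⁻¹ = r' ∧ g * s * g⁻¹ = s' ∧ g * t * g⁻¹ = t' := by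
  obtain ⟨g, rfl, rfl⟩ := C.trans_near h.mem h.rs h'.mem h'.rs
  obtain ⟨f, hf⟩ := C.chart _ h'.mem
  have hs := h'.rs
  have hto : g * t * g⁻¹ ∈ Nb D (g * r * g⁻¹) := nb_conj C.group g h.rt
  have hto' : g * t * g⁻¹ ∈ Nb D (g * s * g⁻¹) := nb_conj C.group g h.st
  have hin : ∀ {w}, w ∈ Nb D (g * r * g⁻¹) → w ∈ Nb D (g * s * g⁻¹) → f w ∈ Nb D1 (f (g * s * g⁻¹)) :=
    fun {w} h1 h2 => hf.nb_inter hs ▸ ⟨w, ⟨h1, h2⟩, rfl⟩
  have ha := hf.mem _ hs
  obtain ⟨b, hb⟩ := Set.nonempty_of_ncard_ne_zero (s := Nb D1 (f (g * s * g⁻¹))) (by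
    rw [C.low.card_nb ha]; norm_num)
  obtain ⟨m, hm, hmq⟩ := prim_trans_commuting C.low.group C.low.prim
    ⟨_, ha, b, hb.1, hb.2.1.symm, hb.2.2⟩ ha _ (hin hto hto') _ (hin h'.rt h'.st)
  obtain ⟨k, hk, rfl⟩ := hf.surj m
  have hkr : k * (g * r * g⁻¹) * k⁻¹ = g * r * g⁻¹ :=
    conj_eq_self_of_commute ((mem_Hd_iff C h'.mem).1 hk)
  have hmove : ∀ {w}, w ∈ Nb D (g * r * g⁻¹) →
      k * w * k⁻¹ ∈ Nb D (g * r * g⁻¹) ∧ f (k * w * k⁻¹) = f k * f w * (f k)⁻¹ := by
    intro w hw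
    have hwH : w ∈ Hd D (g * r * g⁻¹) := Subgroup.subset_closure hw
    refine ⟨?_, ?_⟩
    · have := nb_conj C.group k hw
      rwa [hkr] at this
    · rw [hf.map_mul _ (mul_mem hk hwH) _ (inv_mem hk), hf.map_mul _ hk _ hwH, hf.map_inv hk]
  refine ⟨k * g, ?_, ?_, ?_⟩
  · rw [← hkr]; group
  · rw [show k * g * s * (k * g)⁻¹ = k * (g * s * g⁻¹) * k⁻¹ by group]
    refine hf.inj _ (hmove hs).1 _ hs ?_
    rw [(hmove hs).2]
    exact conj_eq_self_of_commute (commute_of_mem_closure_nb hm).symm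
  · rw [show k * g * t * (k * g)⁻¹ = k * (g * t * g⁻¹) * k⁻¹ by group]
    exact hf.inj _ (hmove hto).1 _ h'.rt ((hmove hto).2.trans hmq)

omit C [Finite G] [Group X] [Finite X] in
/-- A transposition centralised by an element cycling a triangle gives one commuting with the triangle. -/
theorem exists_fixed_com (hT : Cfsg.IsThreeTranspositionGroup D) {y r s t d : G} (h : Tri D r s t)
    (hy : Cyc y r s t) (hd : d ∈ D) (hfix : y * d * y⁻¹ = d) :
    ∃ q ∈ Nb D r ∩ Nb D s ∩ Nb D t, y * q * y⁻¹ = q := by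
  obtain ⟨h1, h2, h3⟩ := hy
  have hrot : ∀ {q}, y * q * y⁻¹ = q → Commute r q → Commute s q ∧ Commute t q := by
    intro q hq hc
    have a := (commute_conj_iff y r q).2 hc
    rw [h1, hq] at a
    have b := (commute_conj_iff y s q).2 a
    rw [h2, hq] at b
    exact ⟨a, b⟩
  have hnot : ∀ {q}, y * q * y⁻¹ = q → q ≠ r ∧ q ≠ s ∧ q ≠ t := fun {q} hq => by
    refine ⟨?_, ?_, ?_⟩ <;> rintro rfl
    · exact h.rs.2.1 (h1.symm.trans hq)
    · exact h.st.2.1 (h2.symm.trans hq)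
    · exact h.rt.2.1 (hq.symm.trans h3)
  have hmk : ∀ {q}, q ∈ D → y * q * y⁻¹ = q → Commute r q → q ∈ Nb D r ∩ Nb D s ∩ Nb D t := fun {q} hq hfq hc =>
    ⟨⟨⟨hq, (hnot hfq).1, hc⟩, hq, (hnot hfq).2.1, (hrot hfq hc).1⟩, hq, (hnot hfq).2.2, (hrot hfq hc).2⟩
  by_cases hrd : Commute r d
  · exact ⟨d, hmk hd hfix hrd, hfix⟩
  have hback : ∀ {a b}, y * a * y⁻¹ = b → Commute b d → Commute a d := fun {a b} e hc => by
    rw [← e, ← hfix] at hc
    exact (commute_conj_iff y a d).1 hc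
  have hsd : ¬ Commute s d := fun hc => hrd (hback h1 hc)
  have htd : ¬ Commute t d := fun hc => hsd (hback h2 hc)
  have hr := TSet.sq hT.1 h.mem
  have hs := TSet.sq hT.1 h.rs.1
  have ht := TSet.sq hT.1 h.rt.1
  have hd2 := TSet.sq hT.1 hd
  have br := TSet.braid hT.1 h.mem hd hrd
  have bs := TSet.braid hT.1 h.rs.1 hd hsd
  have bt := TSet.braid hT.1 h.rt.1 hd htd
  obtain ⟨p, hp⟩ : ∃ p, p = r * s * t := ⟨_, rfl⟩
  obtain ⟨w, hw⟩ : ∃ w, w = d * r * s * t := ⟨_, rfl⟩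
  have hfixed : y * (w * d * w⁻¹) * y⁻¹ = w * d * w⁻¹ := by
    have e : y * w * y⁻¹ = w := by
      rw [hw]
      calc y * (d * r * s * t) * y⁻¹ = (y * d * y⁻¹) * (y * r * y⁻¹) * (y * s * y⁻¹) * (y * t * y⁻¹) := by group
        _ = d * s * t * r := by rw [hfix, h1, h2, h3]
        _ = d * r * s * t := by
          have c : Commute r (s * t) := h.rs.2.2.mul_right h.rt.2.2
          rw [mul_assoc d s t, mul_assoc d (s * t) r, ← c.eq]; simp only [mul_assoc]
    calc y * (w * d * w⁻¹) * y⁻¹ = (y * w * y⁻¹) * (y * d * y⁻¹) * (y * w * y⁻¹)⁻¹ := by group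
      _ = w * d * w⁻¹ := by rw [e, hfix]
  refine ⟨w * d * w⁻¹, hmk (hT.2.1 w d hd) hfixed ?_, hfixed⟩
  have hri := TSet.inv hT.1 h.mem
  have hsi := TSet.inv hT.1 h.rs.1
  have hti := TSet.inv hT.1 h.rt.1
  have hdi := TSet.inv hT.1 hd
  have e : w⁻¹ * r * w = t * d * s * d * t := by
    have e1 : r * d * r * d * r = d := by
      rw [br, mul_assoc (d * r * d) d r, ← mul_assoc, mul_assoc (d * r) d d, hd2, mul_one, mul_assoc, hr, mul_one]
    have hcs : ∀ z, s * (t * z) = t * (s * z) := fun z => by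
      rw [← mul_assoc, h.st.2.2.eq, mul_assoc]
    calc w⁻¹ * r * w = t * s * (r * d * r * d * r) * (s * t) := by
          rw [hw]; simp only [mul_inv_rev, hri, hsi, hti, hdi, mul_assoc]
      _ = t * (s * d * s) * t := by rw [e1]; simp only [mul_assoc]
      _ = t * d * s * d * t := by rw [bs]; simp only [mul_assoc]
  have hc : Commute (w⁻¹ * r * w) d := by
    rw [e]
    have hst : s * t = t * s := h.st.2.2.eq
    show t * d * s * d * t * d = d * (t * d * s * d * t)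
    calc t * d * s * d * t * d = t * d * s * (d * t * d) := by group
      _ = t * d * s * (t * d * t) := by rw [← bt]
      _ = t * d * (s * t) * d * t := by group
      _ = t * d * (t * s) * d * t := by rw [hst]
      _ = (t * d * t) * s * d * t := by group
      _ = (d * t * d) * s * d * t := by rw [bt]
      _ = d * (t * d * s * d * t) := by group
  have := hc.map (MulAut.conj w).toMonoidHom
  simpa [mul_assoc] using this

/-- An element of order three without fixed transpositions cycles a triangle. -/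
theorem exists_triangle {y : G} (h3 : y ^ 3 = 1) (hfree : Free D y) : ∃ r s t, Tri D r s t ∧ Cyc y r s t := by
  have hne : Mv D y ≠ 0 := by
    intro e
    have := C.mv_congr y hfree
    rw [e] at this
    norm_num at this
  obtain ⟨r, hr, hs⟩ := Set.nonempty_of_ncard_ne_zero hne
  obtain ⟨s, rfl⟩ : ∃ s, s = y * r * y⁻¹ := ⟨_, rfl⟩
  obtain ⟨t, htd⟩ : ∃ t, t = y * (y * r * y⁻¹) * y⁻¹ := ⟨_, rfl⟩
  have hst := nb_conj C.group y hs
  rw [← htd] at hst
  have htr : y * t * y⁻¹ = r := by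
    calc y * t * y⁻¹ = (y * y * y) * r * (y * y * y)⁻¹ := by rw [htd]; group
      _ = r := by rw [show y * y * y = y ^ 3 by rw [pow_succ, pow_two], h3]; group
  have hrt := nb_conj C.group y hst
  rw [← htd, htr] at hrt
  exact ⟨r, _, t, ⟨hr, hs, ⟨hst.1, hrt.2.1.symm, hrt.2.2.symm⟩, hst⟩, rfl, htd.symm, htr⟩

/-- The order of the joint centraliser of a triangle, times the number of triangles. -/
theorem card_tri_cent {r s t : G} (h : Tri D r s t) :
    (306936 * 31671 * 3510) * Nat.card ↥(Subgroup.centralizer ({r, s, t} : Set G)) = Nat.card G := by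
  classical
  haveI : Finite (G × G × G) := inferInstance
  let T : Set (G × G × G) := {p | Tri D p.1 p.2.1 p.2.2}
  have hT : T.ncard = 306936 * 31671 * 3510 := by
    have h2 : ∀ r ∈ D, {p : G × G | p.1 ∈ Nb D r ∧ p.2 ∈ Nb D r ∩ Nb D p.1}.ncard = 31671 * 3510 := by
      intro r hr
      have hk : ∀ a ∈ Nb D r, {p : G × G | p ∈ {p : G × G | p.1 ∈ Nb D r ∧ p.2 ∈ Nb D r ∩ Nb D p.1} ∧
          p.1 = a}.ncard = 3510 := by
        intro a ha
        rw [← C.card_edge hr ha]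
        refine Eq.trans ?_ (Set.ncard_image_of_injective (Nb D r ∩ Nb D a) (Prod.mk_right_injective a))
        refine congrArg Set.ncard (Set.ext fun ⟨p, q⟩ => ⟨?_, ?_⟩)
        · rintro ⟨⟨-, hq⟩, rfl⟩; exact ⟨q, hq, rfl⟩
        · rintro ⟨q', hq', e⟩; cases e; exact ⟨⟨ha, hq'⟩, rfl⟩
      have hm : ∀ p ∈ {p : G × G | p.1 ∈ Nb D r ∧ p.2 ∈ Nb D r ∩ Nb D p.1},
          {a | a ∈ Nb D r ∧ p.1 = a}.ncard = 1 := by
        intro p hp
        rw [show {a | a ∈ Nb D r ∧ p.1 = a} = {p.1} from Set.ext fun a =>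
          ⟨fun h => h.2.symm, fun (h : a = p.1) => ⟨h ▸ hp.1, h.symm⟩⟩, Set.ncard_singleton]
      have := double_count (fun a (p : G × G) => p.1 = a) hk hm
      rw [C.card_nb hr, mul_one] at this
      exact this.symm
    have hk : ∀ a ∈ D, {p | p ∈ T ∧ p.1 = a}.ncard = 31671 * 3510 := by
      intro a ha
      rw [← h2 a ha, ← Set.ncard_image_of_injective {p : G × G | p.1 ∈ Nb D a ∧ p.2 ∈ Nb D a ∩ Nb D p.1}
        (Prod.mk_right_injective a)]
      refine congrArg Set.ncard (Set.ext fun ⟨p, q, v⟩ => ⟨?_, ?_⟩)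
      · rintro ⟨hp, rfl⟩; exact ⟨(q, v), ⟨hp.rs, hp.rt, hp.st⟩, rfl⟩
      · rintro ⟨⟨q', v'⟩, hq, e⟩; cases e; exact ⟨⟨ha, hq.1, hq.2.1, hq.2.2⟩, rfl⟩
    have hm : ∀ p ∈ T, {a | a ∈ D ∧ p.1 = a}.ncard = 1 := by
      intro p hp
      rw [show {a | a ∈ D ∧ p.1 = a} = {p.1} from Set.ext fun a =>
        ⟨fun h => h.2.symm, fun (h : a = p.1) => ⟨h ▸ hp.mem, h.symm⟩⟩, Set.ncard_singleton]
    have := double_count (fun a (p : G × G × G) => p.1 = a) hk hm
    rw [C.card_class, mul_one] at this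
    rw [← this, mul_assoc]
  let act : G → G × G × G → G × G × G := fun g p => (g * p.1 * g⁻¹, g * p.2.1 * g⁻¹, g * p.2.2 * g⁻¹)
  have hact : ∀ g, Tri D (g * r * g⁻¹) (g * s * g⁻¹) (g * t * g⁻¹) := fun g =>
    ⟨C.group.2.1 g r h.mem, nb_conj C.group g h.rs, nb_conj C.group g h.rt, nb_conj C.group g h.st⟩
  have hk : ∀ g ∈ (Set.univ : Set G), {p | p ∈ T ∧ act g (r, s, t) = p}.ncard = 1 := by
    intro g _
    rw [show {p | p ∈ T ∧ act g (r, s, t) = p} = {act g (r, s, t)} from Set.ext fun p =>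
      ⟨fun h' => h'.2.symm, fun (h' : p = _) => ⟨h' ▸ hact g, h'.symm⟩⟩, Set.ncard_singleton]
  have hm : ∀ p ∈ T, {g | g ∈ (Set.univ : Set G) ∧ act g (r, s, t) = p}.ncard =
      Nat.card ↥(Subgroup.centralizer ({r, s, t} : Set G)) := by
    intro p hp
    obtain ⟨g₀, e1, e2, e3⟩ := trans_tri C h hp
    rw [← SetLike.coe_sort_coe, Nat.card_coe_set_eq, ← Set.ncard_image_of_injective
      (Subgroup.centralizer ({r, s, t} : Set G) : Set G) (mul_right_injective g₀)]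
    refine congrArg Set.ncard (Set.ext fun g => ⟨?_, ?_⟩)
    · rintro ⟨-, e⟩
      refine ⟨g₀⁻¹ * g, ?_, mul_inv_cancel_left g₀ g⟩
      rw [SetLike.mem_coe, Subgroup.mem_centralizer_iff]
      have key : ∀ v, g * v * g⁻¹ = g₀ * v * g₀⁻¹ → v * (g₀⁻¹ * g) = g₀⁻¹ * g * v := fun v hv => by
        refine (mul_inv_eq_iff_eq_mul.1 ?_).symm
        calc g₀⁻¹ * g * v * (g₀⁻¹ * g)⁻¹ = g₀⁻¹ * (g * v * g⁻¹) * g₀ := by group
          _ = v := by rw [hv]; group
      rintro v (rfl | rfl | rfl)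
      exacts [key _ ((congrArg Prod.fst e).trans e1.symm), key _ ((congrArg (fun x => x.2.1) e).trans e2.symm),
        key _ ((congrArg (fun x => x.2.2) e).trans e3.symm)]
    · rintro ⟨c, hc, rfl⟩
      refine ⟨trivial, ?_⟩
      have key : ∀ v, v * c = c * v → g₀ * c * v * (g₀ * c)⁻¹ = g₀ * v * g₀⁻¹ := fun v hv => by
        rw [mul_assoc g₀ c v, ← hv]; group
      rw [SetLike.mem_coe, Subgroup.mem_centralizer_iff] at hc
      exact Prod.ext ((key r (hc r (Or.inl rfl))).trans e1) (Prod.ext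
        ((key s (hc s (Or.inr (Or.inl rfl)))).trans e2) ((key t (hc t (Or.inr (Or.inr rfl)))).trans e3))
  have := double_count (fun g p => act g (r, s, t) = p) hk hm
  rw [Set.ncard_univ, mul_one, hT] at this
  exact this.symm

end Cfsg.Agent.FischerThree24
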