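import Cfsg.Agent.Lib.FischerThree24.Defs
import Cfsg.Agent.Lib.FischerThree24.Basic
import Cfsg.Agent.Lib.Fi23Ord3.Classes
import Cfsg.Agent.Lib.FischerUnique24.Link
import Cfsg.Agent.Lib.FischerPresented.OutSigma

/-!
Charts at two commuting transpositions, aligned on their common neighbours: one differs from the other
by the diagram symmetry of Fi22.
-/

set_option autoImplicit false
set_option maxRecDepth 100000

namespace Cfsg.Agent.FischerThree24

open Cfsg.Agent.CosetCert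
open Cfsg.Agent.CosetData
open Cfsg.Agent.Fischer
open Cfsg.Agent.Fischer.Factor
open Cfsg.Agent.FischerPresented
open Cfsg.Agent.FischerUnique24
open Cfsg.Agent.Fi23Ord3 (GT el el_append apt apt_el actF wok)
open Cfsg.Agent.FischerUnique23 (gen_nb)
open Cfsg.Agent.Fi22Local (GG gn)

local notation "gT" => Setup.gen Fi23A.setup

theorem tr_congr {p q : ℕ} (hp : p < 31671) (hq : q < 31671) (h : p = q) :
    Out23.tr ⟨p, hp⟩ = Out23.tr ⟨q, hq⟩ := congrArg Out23.tr (Fin.ext h)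

theorem el_tr {w : List ℕ} (hw : wok w = true) {p : ℕ} (hp : p < 31671) :
    ∃ h : actF w p < 31671, el w * Out23.tr ⟨p, hp⟩ * (el w)⁻¹ = Out23.tr ⟨actF w p, h⟩ := by
  refine ⟨(Fi23Ord3.actF_eq hw hp).2, ?_⟩
  rw [← Out23.tr_hom]
  refine congrArg Out23.tr (Fin.ext ?_)
  show (Out23.hm (el w) ⟨p, hp⟩ : ℕ) = actF w p
  rw [← Fi23Ord3.apt_of_lt _ hp, apt_el hw hp]

theorem tr_gen {x p : ℕ} (hx : x < 10) (e : Nat.beq (Out23.gpt x) p = true) :
    ∃ h : p < 31671, Out23.tr ⟨p, h⟩ = gT x := by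
  obtain ⟨h, h'⟩ := Out23.tr_gpt hx
  obtain rfl := Nat.eq_of_beq_eq_true e
  exact ⟨h, h'⟩

theorem el_single (x : ℕ) : el [x] = gT x := by
  simp [el, wprod]

theorem mir_lt {x : ℕ} (hx : x < 9) : Out22.mir x < 9 ∧ Out22.mir (Out22.mir x) = x := by
  have h := allBelow_spec Out22.mir_ok hx
  simpa [Bool.and_eq_true] using h

theorem wok_mW {w : List ℕ} (hw : (w.all fun x => Nat.blt x 9) = true) : wok w = true ∧ wok (mW w) = true := by
  rw [List.all_eq_true] at hw
  constructor <;> rw [Fi23Ord3.wok, List.all_eq_true] <;> intro x hx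
  · have := Nat.blt_eq.mp (hw x hx)
    exact Nat.blt_eq.mpr (by omega)
  · obtain ⟨y, hy, rfl⟩ := List.mem_map.1 hx
    have := (mir_lt (Nat.blt_eq.mp (hw y hy))).1
    exact Nat.blt_eq.mpr (by omega)

/-- Two members of the class next to the standard one with equal images in Fi22 are equal. -/
theorem eq_of_pi {π : Fi23.K →* GG} (hgen : ∀ a < 9, π (Fi23.gK a) = gn a)
    (hker : ∀ g, π g = 1 ↔ g = 1 ∨ g = Fi23.zK) {a b : Fi23.K} (ha : (a : GT) ∈ Fi23.D)
    (hb : (b : GT) ∈ Fi23.D) (hb' : (b : GT) ≠ Fi23.z) (e : π a = π b) : a = b := by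
  have h1 : π (a * b⁻¹) = 1 := by rw [map_mul, map_inv, e, mul_inv_cancel]
  rcases (hker _).1 h1 with h | h
  · exact mul_inv_eq_one.1 h
  · exfalso
    have hb2 : (b : GT) * (b : GT) = 1 := TSet.sq FischerUnique23.D23_group.1 hb
    have hab : (a : GT) = Fi23.z * (b : GT) := by
      have := congrArg Subtype.val h
      rw [Subgroup.coe_mul, Subgroup.coe_inv, inv_eq_of_mul_eq_one_right hb2] at this
      calc (a : GT) = (a : GT) * ((b : GT) * b) := by rw [hb2, mul_one]
        _ = _ := by rw [← mul_assoc, this]; rfl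
    obtain ⟨k, hk, hkb⟩ := (Fi23Ord3.pi_mem_D hgen hb hb').2
    rw [hab, ← (Fi23Ord3.mem_K.1 b.2).eq, ← hkb] at ha
    exact FischerUnique23.gen0_conj_not_mem hk ha

/-- Two charts at commuting transpositions, aligned by the diagram symmetry. -/
structure Pair {G₀ : Type*} [Group G₀] (D : Set G₀) (r u : G₀) (f h : G₀ → GT) : Prop where
  mem_r : r ∈ D
  mem_u : u ∈ Nb D r
  cf : Chart D r f
  ch : Chart D u h
  fu : f u = Fi23.z
  hr : h r = Fi23.z
  align : ∀ y ∈ Nb D r ∩ Nb D u, ∀ w : List ℕ, (w.all fun x => Nat.blt x 9) = true →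
    f y = el w * gT 0 * (el w)⁻¹ → h y = el (mW w) * gT 6 * (el (mW w))⁻¹

variable {G : Type*} [Group G] [Finite G] {D : Set G} {X : Type*} [Group X] [Finite X] {D1 : Set X}
  (C : Ctx D D1)
include C

theorem chart_hom {r u : G} (hr : r ∈ D) (hu : u ∈ Nb D r) {f : G → GT} (hf : Chart D r f)
    (hfu : f u = Fi23.z) {π : Fi23.K →* GG} (hπ : Function.Surjective π)
    (hker : ∀ g, π g = 1 ↔ g = 1 ∨ g = Fi23.zK) :
    ∃ φ : ↥(Subgroup.closure (Com D r u)) →* GG, Function.Surjective φ ∧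
      (∀ g : ↥(Subgroup.closure (Com D r u)), φ g = 1 ↔
        (g : G) = 1 ∨ (g : G) = r ∨ (g : G) = u ∨ (g : G) = r * u) ∧
      ∀ (g : ↥(Subgroup.closure (Com D r u))), ∃ hm : f g ∈ Fi23.K, φ g = π ⟨f g, hm⟩ := by
  obtain ⟨hrA, huA, hcen⟩ := C.com_near hr hu
  have hAH : Subgroup.closure (Com D r u) ≤ Hd D r := Subgroup.closure_mono Set.inter_subset_left
  have hK : ∀ g ∈ Subgroup.closure (Com D r u), f g ∈ Fi23.K := fun g hg => by
    rw [Fi23Ord3.mem_K, ← hfu, hf.commute_nb C.group (hAH hg) hu]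
    exact (show Commute u g from Subgroup.mem_centralizer_iff.1 (hcen.ge hg) u (Or.inr rfl)).symm
  refine ⟨π.comp (MonoidHom.mk' (fun g => ⟨f g, hK g g.2⟩)
    fun a b => Subtype.ext (hf.isChart.map_mul _ (hAH a.2) _ (hAH b.2))), ?_, fun g => ?_, fun g => ⟨hK g g.2, rfl⟩⟩
  · refine hπ.comp fun k => ?_
    obtain ⟨g, hg, e⟩ := hf.isChart.surj (k : GT)
    have hgu : Commute g u := by
      rw [← hf.commute_nb C.group hg hu, e, hfu]
      exact Fi23Ord3.mem_K.1 k.2
    refine ⟨⟨g, hcen.le ?_⟩, Subtype.ext e⟩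
    rw [Subgroup.mem_centralizer_iff]
    rintro v (rfl | rfl)
    exacts [((mem_Hd_iff C hr).1 hg).symm.eq, hgu.symm.eq]
  · have hu' : u ∈ Hd D r := Subgroup.subset_closure hu
    have hu2 := TSet.inv C.group.1 hu.1
    show π _ = 1 ↔ _
    rw [hker]
    constructor
    · rintro (e | e)
      · rcases (hf.ker_iff _ (hAH g.2)).1 (congrArg Subtype.val e) with h | h
        exacts [Or.inl h, Or.inr (Or.inl h)]
      · have e' : f g = Fi23.z := congrArg Subtype.val e
        have h1 : f ((g : G) * u⁻¹) = 1 := by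
          rw [hf.isChart.map_mul _ (hAH g.2) _ (inv_mem hu'), hf.isChart.map_inv hu', e', hfu, mul_inv_cancel]
        rcases (hf.ker_iff _ (mul_mem (hAH g.2) (inv_mem hu'))).1 h1 with h | h
        exacts [Or.inr (Or.inr (Or.inl (mul_inv_eq_one.1 h))), Or.inr (Or.inr (Or.inr (mul_inv_eq_iff_eq_mul.1 h)))]
    · have hfr : f r = 1 := (hf.ker_iff r (hAH hrA)).2 (Or.inr rfl)
      rintro (h | h | h | h)
      · exact Or.inl (Subtype.ext (show f g = 1 by rw [h, hf.isChart.map_one]))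
      · exact Or.inl (Subtype.ext (show f g = 1 by rw [h, hfr]))
      · exact Or.inr (Subtype.ext (show f g = Fi23.z by rw [h, hfu]))
      · exact Or.inr (Subtype.ext (show f g = Fi23.z by
          rw [h, hf.isChart.map_mul _ (hAH hrA) _ hu', hfr, hfu, one_mul]))

/-- Given a chart at `r` there is an aligned one at `u`. -/
theorem exists_pair {r u : G} (hr : r ∈ D) (hu : u ∈ Nb D r) {f : G → GT} (hf : Chart D r f)
    (hfu : f u = Fi23.z) : ∃ h, Pair D r u f h := by
  haveI := Fi23.order_facts.1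
  haveI := Fi22.order_facts.1
  have hru : r ∈ Nb D u := ⟨hr, hu.2.1.symm, hu.2.2.symm⟩
  obtain ⟨h0, hh0, h0r⟩ := exists_chart C hu.1 hru
  obtain ⟨π, hπ, hgen, hker⟩ := FischerUnique23.exists_pi
  obtain ⟨φ1, hs1, hk1, he1⟩ := chart_hom C hr hu hf hfu hπ hker
  obtain ⟨hrA, huA, hcen⟩ := C.com_near hr hu
  have hswap : Subgroup.closure (Com D u r) = Subgroup.closure (Com D r u) :=
    congrArg Subgroup.closure (Set.inter_comm _ _)
  obtain ⟨φ2', hs2', hk2', he2'⟩ := chart_hom C hu.1 hru hh0 h0r hπ hker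
  obtain ⟨φ2, hφ2⟩ : ∃ φ2 : ↥(Subgroup.closure (Com D r u)) →* GG,
      φ2 = φ2'.comp (MulEquiv.subgroupCongr hswap.symm).toMonoidHom := ⟨_, rfl⟩
  have hs2 : Function.Surjective φ2 := hφ2 ▸ hs2'.comp (MulEquiv.subgroupCongr hswap.symm).surjective
  have he2 : ∀ g : ↥(Subgroup.closure (Com D r u)), ∃ hm : h0 g ∈ Fi23.K, φ2 g = π ⟨h0 g, hm⟩ := fun g => by
    rw [hφ2]
    exact he2' ((MulEquiv.subgroupCongr hswap.symm) g)
  have hkk : φ1.ker = φ2.ker := by
    ext g
    rw [MonoidHom.mem_ker, MonoidHom.mem_ker, hk1, hφ2, MonoidHom.comp_apply, hk2']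
    show _ ↔ ((g : G) = 1 ∨ (g : G) = u ∨ (g : G) = r ∨ (g : G) = u * r)
    rw [hu.2.2.eq]
    tauto
  obtain ⟨α, hα⟩ : ∃ α : MulAut GG, ∀ g, α (φ1 g) = φ2 g :=
    ⟨(QuotientGroup.quotientKerEquivOfSurjective φ1 hs1).symm.trans
      ((QuotientGroup.quotientMulEquivOfEq hkk).trans (QuotientGroup.quotientKerEquivOfSurjective φ2 hs2)),
      fun g => by
        have e : (QuotientGroup.quotientKerEquivOfSurjective φ1 hs1).symm (φ1 g) = QuotientGroup.mk g :=
          (MulEquiv.symm_apply_eq _).2 rfl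
        simp only [MulEquiv.trans_apply, e]
        rfl⟩
  -- lifts of the nine generators
  have hlift : ∀ x, ∃ y, x < 9 → y ∈ Nb D r ∩ Nb D u ∧ f y = gT x := fun x => by
    by_cases hx : x < 9
    · obtain ⟨hD, hne, hc⟩ := gen_nb x hx
      obtain ⟨y, hy, e⟩ := hf.isChart.lift _ hD
      refine ⟨y, fun _ => ⟨⟨hy, hy.1, fun e' => hne (by rw [← e, e', hfu]), ?_⟩, e⟩⟩
      exact (hf.isChart.comm u hu y hy).1 (by rw [hfu, e]; exact hc)
    · exact ⟨1, fun h => absurd h hx⟩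
  choose ys hys using hlift
  obtain ⟨B, hB⟩ : ∃ B, B = Subgroup.closure (ys '' {x | x < 9}) := ⟨_, rfl⟩
  have hBA : B ≤ Subgroup.closure (Com D r u) := by
    rw [hB, Subgroup.closure_le]
    rintro _ ⟨x, hx, rfl⟩
    exact Subgroup.subset_closure (hys x hx).1
  have hSB : ∀ y ∈ Nb D r ∩ Nb D u, y ∈ B := by
    intro y hy
    have hyK : f y ∈ Fi23.K := by
      rw [Fi23Ord3.mem_K, ← hfu]
      exact (hf.isChart.comm y hy.1 u hu).2 hy.2.2.2.symm
    have hne : f y ≠ Fi23.z := fun e => hy.2.2.1 (hf.isChart.inj y hy.1 u hu (e.trans hfu.symm))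
    obtain ⟨k, hk, e⟩ := (Fi23Ord3.pi_mem_D hgen (y := ⟨f y, hyK⟩) (hf.isChart.mem y hy.1) hne).2
    have hk' : k ∈ Subgroup.closure (f '' (ys '' {x | x < 9})) := by
      refine Subgroup.closure_mono ?_ hk
      rintro _ ⟨x, hx, rfl⟩
      exact ⟨_, ⟨x, hx, rfl⟩, (hys x hx).2⟩
    obtain ⟨a, ha, haH, hak⟩ := hf.isChart.exists_of_mem_closure (S := ys '' {x | x < 9}) (by
      rintro _ ⟨x, hx, rfl⟩; exact Subgroup.subset_closure (hys x hx).1.1) hk'
    obtain ⟨hy0, hy0e⟩ := hys 0 (by norm_num)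
    have hmem : a * ys 0 * a⁻¹ ∈ Nb D r := by
      have := nb_conj C.group a hy0.1
      rwa [conj_eq_self_of_commute ((mem_Hd_iff C hr).1 haH)] at this
    rw [hf.isChart.inj y hy.1 _ hmem (by
      rw [hf.map_conj haH (Subgroup.subset_closure hy0.1), hak, hy0e]; exact e.symm), hB]
    exact mul_mem (mul_mem ha (Subgroup.subset_closure ⟨0, by norm_num, rfl⟩)) (inv_mem ha)
  obtain ⟨σ, hσ⟩ := Out22.exists_sigma
  have hσ2 : ∀ x < 9, σ⁻¹ (gn x) = gn (Out22.mir x) := fun x hx => by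
    have h1 := hσ _ (mir_lt hx).1
    rw [(mir_lt hx).2] at h1
    show σ.symm (gn x) = _
    rw [MulEquiv.symm_apply_eq]
    exact h1.symm
  have hidx : (Cfsg.Inn GG).index = 2 := by rw [Subgroup.index_eq_card]; exact Out22.card_out
  -- adjust a chart by the inner part
  have hadj : ∀ γ : GG, ∃ h : G → GT, Chart D u h ∧ h r = Fi23.z ∧
      ∀ x < 9, ∀ m : ℕ, m < 9 → γ * α (gn x) * γ⁻¹ = gn m → h (ys x) = gT m := by
    intro γ
    obtain ⟨k, rfl⟩ := hπ γ
    refine ⟨fun g => MulAut.conj (k : GT) (h0 g),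
      ⟨hh0.isChart.comp (MulAut.conj (k : GT)) (conj_image_D _), fun x hx => ?_⟩, ?_, fun x hx m hm e => ?_⟩
    · show MulAut.conj (k : GT) (h0 x) = 1 ↔ _
      rw [MulEquiv.map_eq_one_iff, hh0.ker_iff x hx]
    · show (k : GT) * h0 r * (k : GT)⁻¹ = _
      rw [h0r]
      exact conj_eq_self_of_commute (Fi23Ord3.mem_K.1 k.2)
    · obtain ⟨hy, hye⟩ := hys x hx
      set a : ↥(Subgroup.closure (Com D r u)) := ⟨ys x, Subgroup.subset_closure hy⟩
      obtain ⟨hm1, e1⟩ := he1 a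
      obtain ⟨hm2, e2⟩ := he2 a
      have ea : φ1 a = gn x := by
        rw [e1, ← hgen x hx]
        exact congrArg π (Subtype.ext (by rw [Fi23.gK_coe hx]; exact hye))
      rw [← ea, hα, e2, ← map_inv, ← map_mul, ← map_mul, ← hgen m hm] at e
      have := eq_of_pi hgen hker (a := k * ⟨h0 (ys x), hm2⟩ * k⁻¹) (b := Fi23.gK m) ?_ ?_ ?_ e
      · have := congrArg Subtype.val this
        rw [Fi23.gK_coe hm] at this
        exact this
      · rw [Subgroup.coe_mul, Subgroup.coe_mul, Subgroup.coe_inv]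
        exact Fi23Ord3.conj_D _ (hh0.isChart.mem _ hy.2)
      · rw [Fi23.gK_coe hm]; exact (gen_nb m hm).1
      · rw [Fi23.gK_coe hm]; exact (FischerUnique23.z_ne_gen m hm).symm
  by_cases hin : α ∈ Cfsg.Inn GG
  · exfalso
    obtain ⟨γ, hγ⟩ := hin
    obtain ⟨h, hh, hhr, hhy⟩ := hadj γ⁻¹
    have hsame : ∀ g ∈ B, f g = h g := by
      intro g hg
      have hAr : B ≤ Hd D r := hBA.trans (Subgroup.closure_mono Set.inter_subset_left)
      have hAu : B ≤ Hd D u := hBA.trans (Subgroup.closure_mono Set.inter_subset_right)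
      rw [hB] at hg hAr hAu
      induction hg using Subgroup.closure_induction with
      | mem v hv =>
        obtain ⟨x, hx, rfl⟩ := hv
        rw [(hys x hx).2, hhy x hx x hx (by rw [← hγ, MulAut.conj_apply]; group)]
      | one => rw [hf.isChart.map_one, hh.isChart.map_one]
      | mul a b ha hb ea eb => rw [hf.isChart.map_mul _ (hAr ha) _ (hAr hb), hh.isChart.map_mul _ (hAu ha) _ (hAu hb), ea, eb]
      | inv a ha ea => rw [hf.isChart.map_inv (hAr ha), hh.isChart.map_inv (hAu ha), ea]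
    have hrB : r ∈ B := ((Subgroup.closure_le B).2 hSB) hrA
    have := hsame r hrB
    rw [hhr, (hf.ker_iff r (C.mem_self hr)).2 (Or.inr rfl)] at this
    exact Fi23.z_ne_one this.symm
  · obtain ⟨γ, hγ⟩ : α * σ ∈ Cfsg.Inn GG :=
      (Subgroup.mul_mem_iff_of_index_two hidx).2 (iff_of_false hin (Out22.not_inner hσ))
    obtain ⟨h, hh, hhr, hhy⟩ := hadj γ⁻¹
    have hyx : ∀ x < 9, h (ys x) = gT (Out22.mir x) := fun x hx => by
      refine hhy x hx _ (mir_lt hx).1 ?_
      have hασ : α (gn x) = (α * σ) (σ⁻¹ (gn x)) := by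
        rw [← MulAut.mul_apply, mul_assoc, mul_inv_cancel, mul_one]
      rw [hασ, hσ2 x hx, ← hγ, MulAut.conj_apply]
      group
    refine ⟨h, hr, hu, hf, hh, hfu, hhr, fun y hy w hw e => ?_⟩
    have hword : ∀ v : List ℕ, (v.all fun x => Nat.blt x 9) = true →
        ∃ a, a ∈ Hd D r ∧ a ∈ Hd D u ∧ f a = el v ∧ h a = el (mW v) := by
      intro v
      induction v with
      | nil => exact fun _ => ⟨1, one_mem _, one_mem _, hf.isChart.map_one, hh.isChart.map_one⟩
      | cons x v ih =>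
        intro hv
        simp only [List.all_cons, Bool.and_eq_true, Nat.blt_eq] at hv
        obtain ⟨a, har, hau, e1, e2⟩ := ih hv.2
        obtain ⟨hy', he'⟩ := hys x hv.1
        have h1 : ys x ∈ Hd D r := Subgroup.subset_closure hy'.1
        have h2 : ys x ∈ Hd D u := Subgroup.subset_closure hy'.2
        refine ⟨a * ys x, mul_mem har h1, mul_mem hau h2, ?_, ?_⟩
        · rw [hf.isChart.map_mul _ har _ h1, e1, he', show x :: v = [x] ++ v from rfl, el_append, el_single]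
        · rw [hh.isChart.map_mul _ hau _ h2, e2, hyx x hv.1,
            show mW (x :: v) = [Out22.mir x] ++ mW v from rfl, el_append, el_single]
    obtain ⟨a, har, hau, e1, e2⟩ := hword w hw
    obtain ⟨hy0, hy0e⟩ := hys 0 (by norm_num)
    have hya : y = a * ys 0 * a⁻¹ := by
      have hmem := nb_conj C.group a hy0.1
      rw [conj_eq_self_of_commute ((mem_Hd_iff C hr).1 har)] at hmem
      exact hf.isChart.inj y hy.1 _ hmem (by
        rw [e, hf.map_conj har (Subgroup.subset_closure hy0.1), e1, hy0e])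
    rw [hya, hh.map_conj hau (Subgroup.subset_closure hy0.2), e2, hyx 0 (by norm_num),
      show Out22.mir 0 = 6 from rfl]

end Cfsg.Agent.FischerThree24
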